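import Mathlib
import Cfsg.Agent.H23.HN.MemC.Data

/-!
A derivation that a word fixes the first coset (generated data).
-/

set_option autoImplicit false
set_option maxRecDepth 100000
set_option linter.all false
set_option Elab.async false

namespace H23
namespace HN
namespace MemC

open H93.CosetI

noncomputable section

def st0 : List Step := [(7,[],[]),
(0,[],[]),
(0,[],[]),
(0,[],[]),
(0,[],[]),
(0,[],[]),
(8,[2,4,6,8,10],[2,4]),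
(0,[],[]),
(0,[],[]),
(0,[],[]),
(0,[],[]),
(2,[14,16,18,20],[2]),
(0,[],[]),
(0,[],[]),
(0,[],[]),
(0,[],[]),
(3,[14,24,26,28,30],[1,14,24,26,28,30]),
(0,[],[]),
(0,[],[]),
(0,[],[]),
(0,[],[]),
(0,[],[]),
(0,[],[]),
(0,[],[]),
(5,[2,4,6,8,10,34,36,38,40,42,44,46],[1,14,24]),
(0,[],[]),
(0,[],[]),
(0,[],[]),
(0,[],[]),
(0,[],[]),
(0,[],[]),
(0,[],[]),
(0,[],[]),
(0,[],[]),
(0,[],[]),
(0,[],[]),
(0,[],[]),
(0,[],[]),
(0,[],[]),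
(4,[14,16,50,52,54,56,58,60,62,64,66,68,70,72,74,76],[1,2,23,21]),
(3,[3,1,2,4,13,34,36,38],[4,13,34,36]),
(1,[80],[]),
(1,[83,39],[]),
(1,[83,40],[]),
(0,[],[]),
(0,[],[]),
(0,[],[]),
(0,[],[]),
(0,[],[]),
(0,[],[]),
(0,[],[]),
(0,[],[]),
(0,[],[]),
(0,[],[]),
(0,[],[]),
(5,[23,88,90,92,94,96,98,100,102,104,106,108],[4,13,34]),
(0,[],[]),
(0,[],[]),
(0,[],[]),
(0,[],[]),
(0,[],[]),
(0,[],[]),
(0,[],[]),
(0,[],[]),
(0,[],[]),
(0,[],[]),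
(0,[],[]),
(0,[],[]),
(0,[],[]),
(0,[],[]),
(4,[3,14,24,49,112,114,116,118,120,122,124,126,128,130,132,134,136,138],[4,6]),
(2,[13,11],[6,141,139]),
(0,[],[]),
(0,[],[]),
(0,[],[]),
(0,[],[]),
(4,[13,11,9,7,13,11,9,7,13,34,111,144,146,148,150],[5,23,21,19,50]),
(0,[],[]),
(0,[],[]),
(0,[],[]),
(3,[7,5,23,88,154,156,158],[8,142,137,135]),
(0,[],[]),
(0,[],[]),
(0,[],[]),
(0,[],[]),
(0,[],[]),
(0,[],[]),
(0,[],[]),
(0,[],[]),
(0,[],[]),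
(0,[],[]),
(0,[],[]),
(5,[141,162,164,166,168,170,172,174,176,178,180,182],[8,142,137]),
(0,[],[]),
(0,[],[]),
(0,[],[]),
(0,[],[]),
(0,[],[]),
(0,[],[]),
(0,[],[]),
(4,[142,138,162,186,188,190,192,194,196,198],[9,141,139,143,9,141,139,137,135,133]),
(0,[],[]),
(0,[],[]),
(0,[],[]),
(3,[11,9,141,162,186,202,204,206],[34,111,109]),
(0,[],[]),
(0,[],[]),
(0,[],[]),
(0,[],[]),
(0,[],[]),
(0,[],[]),
(0,[],[]),
(0,[],[]),
(0,[],[]),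
(0,[],[]),
(0,[],[]),
(0,[],[]),
(0,[],[]),
(4,[11,142,137,185,210,212,214,216,218,220,222,224,226,228,230,232,234],[34,36,86]),
(2,[111,144,146],[36,86,237]),
(1,[239],[]),
(1,[241,235],[]),
(1,[149,242],[]),
(1,[241,236],[]),
(1,[245],[]),
(1,[249,233],[]),
(2,[52,54,56],[153,151,250]),
(1,[253],[]),
(1,[255,231],[]),
(1,[56,256],[]),
(1,[255,251],[]),
(1,[259],[]),
(1,[263,229],[]),
(2,[132,134,185,210,212],[201]),
(1,[266],[]),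
(1,[269,214],[]),
(1,[198,270],[]),
(1,[269,213],[]),
(1,[273],[]),
(1,[277,216],[]),
(0,[],[]),
(0,[],[]),
(0,[],[]),
(0,[],[]),
(0,[],[]),
(3,[16,50,153,280,282,284,286,288],[24,49,47]),
(0,[],[]),
(0,[],[]),
(0,[],[]),
(0,[],[]),
(0,[],[]),
(0,[],[]),
(0,[],[]),
(0,[],[]),
(0,[],[]),
(0,[],[]),
(0,[],[]),
(0,[],[]),
(0,[],[]),
(0,[],[]),
(0,[],[]),
(4,[16,18,79,292,294,296,298,300,302,304,306,308,310,312,314,316,318,320],[24,26]),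
(0,[],[]),
(0,[],[]),
(0,[],[]),
(0,[],[]),
(0,[],[]),
(0,[],[]),
(3,[18,79,77,324,326,328,330,332,334],[50,52]),
(0,[],[]),
(0,[],[]),
(0,[],[]),
(0,[],[]),
(0,[],[]),
(0,[],[]),
(0,[],[]),
(0,[],[]),
(5,[17,24,26,28,338,340,342,344,346,348,350,352],[50,52,337]),
(0,[],[]),
(0,[],[]),
(0,[],[]),
(0,[],[]),
(0,[],[]),
(0,[],[]),
(0,[],[]),
(0,[],[]),
(0,[],[]),
(0,[],[]),
(0,[],[]),
(4,[18,20,88,154,356,358,360,362,364,366,368,370,372,374,376],[50,153,151,261,58]),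
(0,[],[]),
(0,[],[]),
(0,[],[]),
(0,[],[]),
(0,[],[]),
(3,[20,88,90,92,380,382,384,386,388],[79,292]),
(0,[],[]),
(0,[],[]),
(0,[],[]),
(0,[],[]),
(0,[],[]),
(0,[],[]),
(0,[],[]),
(0,[],[]),
(5,[19,50,153,280,392,394,396,398,400,402,404,406],[79,292,391]),
(0,[],[]),
(0,[],[]),
(0,[],[]),
(0,[],[]),
(0,[],[]),
(0,[],[]),
(0,[],[]),
(0,[],[]),
(4,[20,22,4,13,11,142,137,185,210,410,412,414,416,418,420,422,424],[79,77,75]),
(0,[],[]),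
(0,[],[]),
(0,[],[]),
(0,[],[]),
(0,[],[]),
(0,[],[]),
(0,[],[]),
(0,[],[]),
(5,[21,79,77,324,428,430,432,434,436,438,440,442],[88,154,156]),
(0,[],[]),
(0,[],[]),
(0,[],[]),
(0,[],[]),
(0,[],[]),
(0,[],[]),
(0,[],[]),
(0,[],[]),
(0,[],[]),
(4,[22,3,1,14,16,18,79,292,294,446,448,450,452,454,456,458,460,462],[88,90]),
(2,[49,112,114],[26,323,321]),
(1,[467],[]),
(1,[469,319],[]),
(1,[117,470],[]),
(1,[469,320],[]),
(1,[473],[]),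
(1,[477,317],[]),
(0,[],[]),
(0,[],[]),
(0,[],[]),
(0,[],[]),
(0,[],[]),
(0,[],[]),
(0,[],[]),
(0,[],[]),
(0,[],[]),
(0,[],[])]
theorem ok0 : data.stepsOK st0 0 = true := by decide +kernel
def st1 : List Step := [(0,[],[]),
(4,[49,112,480,482,484,486,488,490,492,494,496,498,500],[25,15,2,23,88,90,465]),
(0,[],[]),
(0,[],[]),
(0,[],[]),
(0,[],[]),
(0,[],[]),
(0,[],[]),
(0,[],[]),
(0,[],[]),
(0,[],[]),
(0,[],[]),
(0,[],[]),
(5,[323,504,506,508,510,512,514,516,518,520,522,524],[28,30,33]),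
(0,[],[]),
(0,[],[]),
(0,[],[]),
(0,[],[]),
(0,[],[]),
(0,[],[]),
(0,[],[]),
(0,[],[]),
(0,[],[]),
(0,[],[]),
(0,[],[]),
(0,[],[]),
(0,[],[]),
(0,[],[]),
(4,[27,49,47,45,528,530,532,534,536,538,540,542,544,546,548,550,552,554],[28,338]),
(6,[5,3,14,16,50,52,337,355],[6,8,10,12,6,8,10,34,36,86,247,148,261,58,379,377]),
(1,[559],[]),
(1,[561,375],[]),
(1,[352,562],[]),
(1,[561,376],[]),
(1,[565],[]),
(1,[569,373],[]),
(2,[30,527],[338,557,555]),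
(3,[45,43,247,148,150,280,392,394],[46,112,480]),
(2,[60,62],[379,567,354,335]),
(1,[577],[]),
(1,[579,333],[]),
(1,[65,580],[]),
(1,[579,334],[]),
(1,[583],[]),
(1,[587,331],[]),
(1,[67,588],[]),
(1,[591],[]),
(1,[593,329],[]),
(2,[74,76,292,294,296],[427]),
(1,[597],[]),
(1,[599,425],[]),
(1,[299,600],[]),
(1,[599,426],[]),
(1,[603],[]),
(1,[607,423],[]),
(2,[574,482,484,486],[396]),
(0,[],[]),
(0,[],[]),
(0,[],[]),
(0,[],[]),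
(0,[],[]),
(0,[],[]),
(0,[],[]),
(4,[30,527,525,523,612,614,616,618,620,622,624],[29,323,475,115,480,575,396,398,400]),
(0,[],[]),
(0,[],[]),
(0,[],[]),
(3,[527,525,628,630,632],[33,527,525,628,630,632]),
(0,[],[]),
(0,[],[]),
(0,[],[]),
(0,[],[]),
(0,[],[]),
(0,[],[]),
(0,[],[]),
(0,[],[]),
(0,[],[]),
(0,[],[]),
(0,[],[]),
(0,[],[]),
(0,[],[]),
(4,[527,572,553,636,638,640,642,644,646,648,650,652,654,656,658,660],[33,31,338,557]),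
(0,[],[]),
(0,[],[]),
(0,[],[]),
(0,[],[]),
(0,[],[]),
(0,[],[]),
(0,[],[]),
(0,[],[]),
(0,[],[]),
(0,[],[]),
(0,[],[]),
(0,[],[]),
(4,[111,144,664,666,668,670,672,674,676,678,680,682,684,686],[35,12,6,141,162,164]),
(0,[],[]),
(0,[],[]),
(0,[],[]),
(0,[],[]),
(0,[],[]),
(0,[],[]),
(0,[],[]),
(0,[],[]),
(0,[],[]),
(0,[],[]),
(0,[],[]),
(4,[37,111,109,107,690,692,694,696,698,700,702,704,706,708,710],[85,86,247,147,664]),
(0,[],[]),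
(0,[],[]),
(3,[87,85,86,42,528,714,716],[42,528,714,716]),
(0,[],[]),
(0,[],[]),
(0,[],[]),
(0,[],[]),
(0,[],[]),
(0,[],[]),
(0,[],[]),
(5,[247,148,261,58,379,720,722,724,726,728,730,732],[42,528,714]),
(0,[],[]),
(0,[],[]),
(0,[],[]),
(0,[],[]),
(0,[],[]),
(0,[],[]),
(0,[],[]),
(0,[],[]),
(4,[87,37,35,11,142,138,162,186,188,736,738,740,742,744,746,748,750],[42,44,291]),
(2,[528,530],[44,291,753]),
(0,[],[]),
(0,[],[]),
(0,[],[]),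
(0,[],[]),
(0,[],[]),
(0,[],[]),
(0,[],[]),
(0,[],[]),
(0,[],[]),
(4,[528,530,532,534,536,756,758,760,762,764,766,768,770,772],[43,247,147,145,109,209]),
(0,[],[]),
(0,[],[]),
(0,[],[]),
(0,[],[]),
(0,[],[]),
(0,[],[]),
(0,[],[]),
(0,[],[]),
(0,[],[]),
(5,[291,289,776,778,780,782,784,786,788,790,792],[46,112,480,482]),
(0,[],[]),
(0,[],[]),
(0,[],[]),
(0,[],[]),
(0,[],[]),
(0,[],[]),
(0,[],[]),
(0,[],[]),
(0,[],[]),
(0,[],[]),
(4,[45,528,714,735,796,798,800,802,804,806,808,810,812,814],[46,48,26,323,504,506]),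
(0,[],[]),
(0,[],[]),
(0,[],[]),
(0,[],[]),
(0,[],[]),
(0,[],[]),
(0,[],[]),
(0,[],[]),
(0,[],[]),
(0,[],[]),
(4,[112,114,116,118,120,818,820,822,824,826,828,830,832,834,836],[47,291,753,755,532]),
(2,[690,692],[106,209,775]),
(2,[118,120,818],[478,315]),
(2,[186,188,190],[164,689]),
(2,[534,536,756],[839,837]),
(2,[548,550,636,638,640],[]),
(2,[666,668,670],[713,711]),
(0,[],[]),
(0,[],[]),
(0,[],[]),
(0,[],[]),
(0,[],[]),
(4,[52,54,264,852,854,856,858,860],[51,17,15,2,4,6,141,162,164,689,845,192]),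
(0,[],[]),
(0,[],[]),
(0,[],[]),
(0,[],[]),
(3,[54,264,227,864,866,868,870],[337,355,353,570]),
(0,[],[]),
(0,[],[]),
(0,[],[]),
(0,[],[]),
(0,[],[]),
(3,[56,58,379,720,874,876,878,880,882],[264,852]),
(0,[],[]),
(0,[],[]),
(0,[],[]),
(0,[],[]),
(0,[],[]),
(0,[],[]),
(0,[],[]),
(0,[],[]),
(5,[55,337,585,64,886,888,890,892,894,896,898,900],[264,852,885]),
(0,[],[]),
(0,[],[]),
(0,[],[]),
(0,[],[]),
(3,[260,149,147,664,666,904,906,908,910],[58,60]),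
(0,[],[]),
(0,[],[]),
(0,[],[]),
(0,[],[]),
(0,[],[]),
(0,[],[]),
(0,[],[]),
(0,[],[]),
(4,[260,150,280,282,916,918,920,922,924,926,928],[58,379,567,354,336,53,153,280,392]),
(0,[],[]),
(0,[],[]),
(0,[],[]),
(4,[62,584,336,54,56,260,149,246,87,85,37,111,144,664,666,668,934,936],[913,911]),
(0,[],[]),
(0,[],[]),
(0,[],[]),
(0,[],[]),
(0,[],[]),
(0,[],[]),
(0,[],[]),
(0,[],[]),
(5,[63,913,911,909,940,942,944,946,948,950,952,954],[64,66,594]),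
(0,[],[]),
(0,[],[]),
(0,[],[]),
(0,[],[]),
(0,[],[]),
(0,[],[]),
(0,[],[]),
(0,[],[]),
(0,[],[]),
(0,[],[]),
(0,[],[]),
(0,[],[]),
(0,[],[]),
(0,[],[]),
(4,[584,355,353,351,958,960,962,964,966,968,970,972,974,976,978,980,982,984],[64,886]),
(2,[66,68,70],[886,987,985]),
(1,[989],[]),
(1,[991,983],[]),
(1,[73,992],[]),
(1,[991,984],[]),
(1,[995],[])]
theorem ok1 : data.stepsOK st1 250 = true := by decide +kernel
def st2 : List Step := [(1,[999,981],[]),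
(1,[604,1000],[]),
(1,[1003],[]),
(1,[1005,979],[]),
(1,[296,1006],[]),
(1,[1009],[]),
(1,[1011,977],[]),
(1,[447,1012],[]),
(1,[1015],[]),
(1,[1017,975],[]),
(0,[],[]),
(0,[],[]),
(0,[],[]),
(0,[],[]),
(0,[],[]),
(0,[],[]),
(0,[],[]),
(0,[],[]),
(0,[],[]),
(0,[],[]),
(0,[],[]),
(0,[],[]),
(4,[66,68,1020,1022,1024,1026,1028,1030,1032,1034,1036,1038,1040,1042],[65,63,61,379,720,722]),
(0,[],[]),
(0,[],[]),
(0,[],[]),
(0,[],[]),
(0,[],[]),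
(0,[],[]),
(0,[],[]),
(0,[],[]),
(0,[],[]),
(4,[68,70,72,74,76,292,391,409,1046,1048,1050,1052,1054,1056,1058,1060,1062],[594,327,428]),
(0,[],[]),
(0,[],[]),
(6,[34,111,144,146,148,150,280,282,916,918,920,922],[12,5,23,21,19,50,153,280,392,931,929,927]),
(1,[1071],[]),
(1,[1073,926],[]),
(1,[1073,925],[]),
(1,[922,1076],[]),
(1,[1079],[]),
(1,[1081,1074],[]),
(1,[920,1082],[]),
(1,[1081,923],[]),
(1,[1085],[]),
(1,[1089,928],[]),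
(2,[194,196,278,218],[863,861]),
(1,[1093],[]),
(1,[1095,859],[]),
(1,[221,1096],[]),
(1,[1095,860],[]),
(1,[1099],[]),
(1,[1103,857],[]),
(0,[],[]),
(0,[],[]),
(0,[],[]),
(0,[],[]),
(0,[],[]),
(0,[],[]),
(0,[],[]),
(0,[],[]),
(0,[],[]),
(0,[],[]),
(4,[996,986,888,932,1106,1108,1110,1112,1114,1116,1118,1120,1122,1124],[72,605,297,295,391,389]),
(0,[],[]),
(0,[],[]),
(0,[],[]),
(0,[],[]),
(0,[],[]),
(0,[],[]),
(0,[],[]),
(0,[],[]),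
(0,[],[]),
(0,[],[]),
(0,[],[]),
(0,[],[]),
(0,[],[]),
(4,[76,292,391,409,1046,1130,1132,1134,1136,1138,1140,1142,1144,1146,1148,1150,1152],[324,428,1065]),
(0,[],[]),
(0,[],[]),
(0,[],[]),
(0,[],[]),
(0,[],[]),
(0,[],[]),
(0,[],[]),
(0,[],[]),
(4,[154,356,1156,1158,1160,1162,1164,1166,1168,1170],[89,21,19,17,24,26,323,504,506,817]),
(0,[],[]),
(0,[],[]),
(0,[],[]),
(0,[],[]),
(0,[],[]),
(0,[],[]),
(0,[],[]),
(0,[],[]),
(0,[],[]),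
(5,[465,503,501,1174,1176,1178,1180,1182,1184,1186,1188,1190],[92,380,382]),
(0,[],[]),
(0,[],[]),
(0,[],[]),
(0,[],[]),
(0,[],[]),
(0,[],[]),
(0,[],[]),
(0,[],[]),
(0,[],[]),
(0,[],[]),
(0,[],[]),
(0,[],[]),
(0,[],[]),
(0,[],[]),
(4,[91,154,156,445,1194,1196,1198,1200,1202,1204,1206,1208,1210,1212,1214,1216,1218,1220],[92,94]),
(0,[],[]),
(0,[],[]),
(0,[],[]),
(0,[],[]),
(0,[],[]),
(0,[],[]),
(3,[95,93,465,503,1224,1226,1228,1230,1232,1234],[96]),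
(0,[],[]),
(0,[],[]),
(0,[],[]),
(0,[],[]),
(0,[],[]),
(0,[],[]),
(0,[],[]),
(0,[],[]),
(0,[],[]),
(0,[],[]),
(0,[],[]),
(5,[1223,1238,1240,1242,1244,1246,1248,1250,1252,1254,1256,1258],[96,1237,1235]),
(0,[],[]),
(0,[],[]),
(0,[],[]),
(0,[],[]),
(0,[],[]),
(0,[],[]),
(0,[],[]),
(0,[],[]),
(0,[],[]),
(0,[],[]),
(0,[],[]),
(0,[],[]),
(0,[],[]),
(0,[],[]),
(4,[95,380,382,1193,1262,1264,1266,1268,1270,1272,1274,1276,1278,1280,1282,1284,1286,1288],[96,98]),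
(2,[326,957],[428,1065,1155]),
(2,[388,409,1046,1130],[1127]),
(0,[],[]),
(0,[],[]),
(0,[],[]),
(0,[],[]),
(0,[],[]),
(0,[],[]),
(3,[99,97,1223,1238,1296,1298,1300,1302,1304,1306],[100]),
(0,[],[]),
(0,[],[]),
(0,[],[]),
(0,[],[]),
(0,[],[]),
(0,[],[]),
(0,[],[]),
(0,[],[]),
(0,[],[]),
(0,[],[]),
(0,[],[]),
(0,[],[]),
(0,[],[]),
(0,[],[]),
(0,[],[]),
(4,[99,1237,1235,1261,1312,1314,1316,1318,1320,1322,1324,1326,1328,1330,1332,1334,1336,1338],[100,102]),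
(0,[],[]),
(0,[],[]),
(0,[],[]),
(0,[],[]),
(0,[],[]),
(0,[],[]),
(0,[],[]),
(0,[],[]),
(0,[],[]),
(3,[103,101,1291,1310,1350,1352,1354,1356,1358],[104,690]),
(0,[],[]),
(0,[],[]),
(0,[],[]),
(0,[],[]),
(0,[],[]),
(0,[],[]),
(0,[],[]),
(0,[],[]),
(0,[],[]),
(0,[],[]),
(0,[],[]),
(5,[1341,1362,1364,1366,1368,1370,1372,1374,1376,1378,1380,1382],[104,690,1361]),
(0,[],[]),
(0,[],[]),
(0,[],[]),
(0,[],[]),
(3,[107,105,1341,1362,1388,1390,1392],[108,144,664,713]),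
(0,[],[]),
(0,[],[]),
(0,[],[]),
(0,[],[]),
(0,[],[]),
(0,[],[]),
(0,[],[]),
(0,[],[]),
(5,[209,207,1396,1398,1400,1402,1404,1406,1408,1410],[108,144,664,666,904]),
(0,[],[]),
(0,[],[]),
(0,[],[]),
(0,[],[]),
(0,[],[]),
(0,[],[]),
(0,[],[]),
(4,[107,690,1361,1385,1414,1416,1418,1420,1422,1424,1426],[108,110,36,86,42,44,291,289,776]),
(0,[],[]),
(0,[],[]),
(0,[],[]),
(0,[],[]),
(4,[144,146,148,150,152,52,337,355,566,720,874,1430,1432,1434,1436],[109,209,775,841,694]),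
(0,[],[]),
(0,[],[]),
(0,[],[]),
(0,[],[]),
(0,[],[]),
(3,[114,116,478,1440,1442,1444,1446,1448],[480,482,795]),
(0,[],[]),
(0,[],[]),
(0,[],[]),
(0,[],[]),
(0,[],[]),
(0,[],[]),
(0,[],[]),
(0,[],[]),
(0,[],[]),
(0,[],[]),
(0,[],[]),
(0,[],[]),
(4,[114,474,504,1452,1454,1456,1458,1460,1462,1464,1466,1468,1470,1472,1474],[480,575,396,611,488]),
(0,[],[]),
(0,[],[]),
(0,[],[]),
(0,[],[]),
(0,[],[]),
(3,[474,504,506,508,1478,1480,1482,1484,1486],[116,118]),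
(0,[],[]),
(0,[],[]),
(0,[],[]),
(0,[],[]),
(0,[],[])]
theorem ok2 : data.stepsOK st2 500 = true := by decide +kernel
def st3 : List Step := [(0,[],[]),
(0,[],[]),
(5,[115,480,575,395,931,1490,1492,1494,1496,1498,1500,1502],[116,118,1489]),
(0,[],[]),
(0,[],[]),
(0,[],[]),
(0,[],[]),
(0,[],[]),
(0,[],[]),
(4,[474,322,28,30,527,572,553,636,638,1506,1508,1510,1512,1514,1516],[116,478,315,843,820]),
(0,[],[]),
(0,[],[]),
(0,[],[]),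
(0,[],[]),
(0,[],[]),
(0,[],[]),
(0,[],[]),
(0,[],[]),
(0,[],[]),
(5,[478,1440,1520,1522,1524,1526,1528,1530,1532,1534,1536],[117,474,504,1452]),
(0,[],[]),
(0,[],[]),
(0,[],[]),
(0,[],[]),
(0,[],[]),
(0,[],[]),
(0,[],[]),
(0,[],[]),
(0,[],[]),
(0,[],[]),
(0,[],[]),
(0,[],[]),
(0,[],[]),
(0,[],[]),
(0,[],[]),
(0,[],[]),
(4,[120,818,820,822,824,1546,1548,1550,1552,1554,1556,1558,1560,1562,1564,1566,1568,1570],[1489,1487]),
(0,[],[]),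
(0,[],[]),
(0,[],[]),
(0,[],[]),
(0,[],[]),
(0,[],[]),
(3,[818,820,1519,1574,1576,1578,1580,1582,1584],[122,124]),
(0,[],[]),
(0,[],[]),
(0,[],[]),
(0,[],[]),
(0,[],[]),
(0,[],[]),
(0,[],[]),
(0,[],[]),
(5,[121,1489,1487,1485,1588,1590,1592,1594,1596,1598,1600,1602],[122,124,1587]),
(0,[],[]),
(0,[],[]),
(0,[],[]),
(0,[],[]),
(0,[],[]),
(0,[],[]),
(0,[],[]),
(0,[],[]),
(0,[],[]),
(0,[],[]),
(0,[],[]),
(0,[],[]),
(0,[],[]),
(0,[],[]),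
(0,[],[]),
(4,[818,842,313,1606,1608,1610,1612,1614,1616,1618,1620,1622,1624,1626,1628,1630,1632,1634],[122,1540]),
(2,[124,126,128],[1540,1637,1635]),
(1,[1639],[]),
(1,[1641,1633],[]),
(1,[131,1642],[]),
(1,[1641,1634],[]),
(1,[1645],[]),
(1,[1649,1631],[]),
(1,[200,1650],[]),
(1,[1653],[]),
(1,[1655,1629],[]),
(1,[275,1656],[]),
(1,[1659],[]),
(1,[1661,1627],[]),
(1,[411,1662],[]),
(1,[1665],[]),
(1,[1667,1625],[]),
(0,[],[]),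
(0,[],[]),
(0,[],[]),
(0,[],[]),
(0,[],[]),
(0,[],[]),
(0,[],[]),
(0,[],[]),
(0,[],[]),
(0,[],[]),
(0,[],[]),
(0,[],[]),
(4,[124,126,1670,1672,1674,1676,1678,1680,1682,1684,1686,1688,1690,1692],[123,121,119,478,1440,1520]),
(2,[306,308,310,1606,1608,1610],[]),
(1,[1696],[]),
(1,[1699,1612],[]),
(1,[304,1700],[]),
(1,[1699,1611],[]),
(1,[1703],[]),
(1,[1707,1614],[]),
(2,[412,414,416],[1668,1623,1621]),
(1,[1711],[]),
(1,[1713,1619],[]),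
(1,[419,1714],[]),
(1,[1713,1620],[]),
(1,[1717],[]),
(1,[1721,1617],[]),
(2,[1452,1454,1456],[506,817,1173]),
(1,[1724],[]),
(1,[1727,1457],[]),
(2,[696,698,1386],[1439,1437]),
(2,[874,1430,1432],[722,1045]),
(2,[822,824,1546],[1519,1517]),
(0,[],[]),
(0,[],[]),
(0,[],[]),
(0,[],[]),
(0,[],[]),
(0,[],[]),
(0,[],[]),
(0,[],[]),
(0,[],[]),
(0,[],[]),
(4,[126,128,130,132,134,185,183,181,1736,1738,1740,1742,1744,1746,1748,1750,1752,1754],[1587,1585]),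
(0,[],[]),
(0,[],[]),
(0,[],[]),
(0,[],[]),
(3,[128,130,201,199,278,1758,1760,1762,1764],[1670,1672]),
(0,[],[]),
(0,[],[]),
(0,[],[]),
(0,[],[]),
(0,[],[]),
(0,[],[]),
(0,[],[]),
(0,[],[]),
(5,[127,1587,1585,1583,1768,1770,1772,1774,1776,1778,1780,1782],[1670,1672,1767]),
(0,[],[]),
(0,[],[]),
(0,[],[]),
(0,[],[]),
(0,[],[]),
(0,[],[]),
(0,[],[]),
(3,[1646,1786,1788,1790,1792,1794,1796,1798],[130,132,161]),
(0,[],[]),
(0,[],[]),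
(0,[],[]),
(0,[],[]),
(0,[],[]),
(0,[],[]),
(0,[],[]),
(0,[],[]),
(0,[],[]),
(0,[],[]),
(0,[],[]),
(4,[1646,1636,1542,1544,1802,1804,1806,1808,1810,1812,1814,1816,1818,1820,1822],[130,201,274,211,183]),
(0,[],[]),
(0,[],[]),
(0,[],[]),
(0,[],[]),
(0,[],[]),
(0,[],[]),
(0,[],[]),
(0,[],[]),
(0,[],[]),
(0,[],[]),
(0,[],[]),
(0,[],[]),
(0,[],[]),
(0,[],[]),
(0,[],[]),
(0,[],[]),
(0,[],[]),
(4,[134,185,183,181,1736,1834,1836,1838,1840,1842,1844,1846,1848,1850,1852,1854,1856,1858],[161,1801]),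
(0,[],[]),
(0,[],[]),
(0,[],[]),
(3,[185,183,1825,1862,1864,1866],[136,138,162,164,166]),
(0,[],[]),
(0,[],[]),
(0,[],[]),
(0,[],[]),
(0,[],[]),
(0,[],[]),
(5,[135,161,1801,1799,1870,1872,1874,1876,1878,1880],[136,138,162,186,202]),
(6,[136,138,140,7,5,3,1,14,16,18,79,292,391,409,1046,1130,1132,1134],[135,161,1801,1861,1859,1857]),
(1,[1885],[]),
(1,[1887,1856],[]),
(1,[1887,1855],[]),
(1,[1134,1890],[]),
(1,[1893],[]),
(1,[1895,1853],[]),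
(0,[],[]),
(0,[],[]),
(0,[],[]),
(0,[],[]),
(0,[],[]),
(0,[],[]),
(0,[],[]),
(0,[],[]),
(4,[146,246,42,528,530,754,751,1898,1900,1902,1904,1906,1908,1910,1912],[664,713,711,851,672]),
(6,[42,528,530,754,751,1898],[247,148,261,57,55,337,585,64,886,987,997,72,605,298,608,421,1722]),
(2,[445,1194,1196],[158,1801,1861]),
(1,[1919],[]),
(1,[1921,1859],[]),
(1,[1196,1922],[]),
(1,[1925],[]),
(1,[1927,1889],[]),
(2,[1736,1834],[180,1825,1823]),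
(6,[1138,1140,1142,1144,1146,1148],[1137,1929,1195,444,158,160,133,131,129,127,125,123,121,1489,1487,1573,1571,1569]),
(1,[1933],[]),
(1,[1935,1568],[]),
(1,[1935,1567],[]),
(1,[1148,1938],[]),
(1,[1941],[]),
(1,[1943,1565],[]),
(0,[],[]),
(0,[],[]),
(0,[],[]),
(0,[],[]),
(0,[],[]),
(0,[],[]),
(5,[147,664,713,1395,1946,1948,1950,1952,1954,1956],[148,150,280,282,284]),
(0,[],[]),
(0,[],[]),
(0,[],[]),
(0,[],[]),
(0,[],[]),
(0,[],[]),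
(0,[],[]),
(0,[],[]),
(0,[],[]),
(4,[445,1194,1928,1136,1960,1962,1964,1966,1968,1970,1972,1974,1976],[157,155,90,465,503,501,499]),
(0,[],[]),
(0,[],[]),
(0,[],[]),
(0,[],[]),
(0,[],[]),
(0,[],[]),
(0,[],[]),
(0,[],[]),
(0,[],[]),
(5,[689,687,685,1980,1982,1984,1986,1988,1990,1992,1994,1996],[166,1869,1867])]
theorem ok3 : data.stepsOK st3 750 = true := by decide +kernel
def st4 : List Step := [(0,[],[]),
(0,[],[]),
(0,[],[]),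
(0,[],[]),
(0,[],[]),
(0,[],[]),
(0,[],[]),
(0,[],[]),
(0,[],[]),
(0,[],[]),
(0,[],[]),
(0,[],[]),
(0,[],[]),
(0,[],[]),
(4,[165,186,202,1883,2000,2002,2004,2006,2008,2010,2012,2014,2016,2018,2020,2022,2024,2026],[166,168]),
(0,[],[]),
(2,[1869,2030],[168,2029,2027]),
(0,[],[]),
(0,[],[]),
(0,[],[]),
(0,[],[]),
(0,[],[]),
(0,[],[]),
(0,[],[]),
(0,[],[]),
(0,[],[]),
(0,[],[]),
(0,[],[]),
(0,[],[]),
(0,[],[]),
(4,[1869,2030,2034,2036,2038,2040,2042,2044,2046,2048,2050,2052,2054,2056,2058],[167,689,845,191,736]),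
(0,[],[]),
(0,[],[]),
(0,[],[]),
(0,[],[]),
(0,[],[]),
(0,[],[]),
(3,[169,167,689,687,2062,2064,2066,2068,2070,2072],[170]),
(0,[],[]),
(0,[],[]),
(0,[],[]),
(0,[],[]),
(0,[],[]),
(0,[],[]),
(0,[],[]),
(0,[],[]),
(0,[],[]),
(0,[],[]),
(0,[],[]),
(5,[2029,2076,2078,2080,2082,2084,2086,2088,2090,2092,2094,2096],[170,2075,2073]),
(0,[],[]),
(0,[],[]),
(0,[],[]),
(0,[],[]),
(0,[],[]),
(0,[],[]),
(0,[],[]),
(0,[],[]),
(0,[],[]),
(0,[],[]),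
(0,[],[]),
(0,[],[]),
(0,[],[]),
(0,[],[]),
(4,[169,1869,1867,1999,2100,2102,2104,2106,2108,2110,2112,2114,2116,2118,2120,2122,2124,2126],[170,172]),
(2,[1883,2000,2002],[204,1396]),
(2,[1959],[286,776,1429,1427]),
(2,[738,740,742],[2061,2059]),
(2,[1134,1136,1960,1962],[1896]),
(0,[],[]),
(0,[],[]),
(0,[],[]),
(0,[],[]),
(0,[],[]),
(0,[],[]),
(3,[173,171,2029,2076,2138,2140,2142,2144,2146,2148],[174]),
(0,[],[]),
(0,[],[]),
(0,[],[]),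
(0,[],[]),
(0,[],[]),
(0,[],[]),
(0,[],[]),
(0,[],[]),
(0,[],[]),
(0,[],[]),
(0,[],[]),
(5,[2129,2152,2154,2156,2158,2160,2162,2164,2166,2168,2170,2172],[174,2151,2149]),
(0,[],[]),
(0,[],[]),
(0,[],[]),
(0,[],[]),
(0,[],[]),
(0,[],[]),
(0,[],[]),
(0,[],[]),
(0,[],[]),
(0,[],[]),
(0,[],[]),
(0,[],[]),
(0,[],[]),
(0,[],[]),
(4,[173,2075,2073,2099,2176,2178,2180,2182,2184,2186,2188,2190,2192,2194,2196,2198,2200,2202],[174,176]),
(0,[],[]),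
(2,[2151,2206],[176,2205,2203]),
(0,[],[]),
(0,[],[]),
(0,[],[]),
(0,[],[]),
(0,[],[]),
(0,[],[]),
(0,[],[]),
(0,[],[]),
(0,[],[]),
(0,[],[]),
(0,[],[]),
(3,[177,175,2129,2152,2224,2226,2228,2230],[178,1736,1738]),
(0,[],[]),
(0,[],[]),
(0,[],[]),
(0,[],[]),
(0,[],[]),
(0,[],[]),
(0,[],[]),
(0,[],[]),
(0,[],[]),
(0,[],[]),
(0,[],[]),
(0,[],[]),
(4,[1736,1834,1836,1838,1840,2238,2240,2242,2244,2246,2248,2250,2252,2254,2256],[179,2205,2203,2209,2210]),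
(2,[2212,2214,2216],[2259,2257]),
(0,[],[]),
(0,[],[]),
(0,[],[]),
(0,[],[]),
(0,[],[]),
(0,[],[]),
(0,[],[]),
(0,[],[]),
(0,[],[]),
(4,[210,275,199,278,218,1100,2262,2264,2266,2268,2270,2272,2274,2276,2278],[183,1825,1823,1931,1836]),
(0,[],[]),
(0,[],[]),
(0,[],[]),
(0,[],[]),
(0,[],[]),
(0,[],[]),
(0,[],[]),
(0,[],[]),
(0,[],[]),
(0,[],[]),
(4,[188,190,192,194,196,278,1758,2286,2288,2290,2292,2294,2296,2298,2300],[202,204,1396,2131,2004]),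
(0,[],[]),
(0,[],[]),
(0,[],[]),
(0,[],[]),
(3,[190,192,863,2262,2264,2304,2306,2308,2310],[736,738]),
(0,[],[]),
(0,[],[]),
(0,[],[]),
(0,[],[]),
(0,[],[]),
(0,[],[]),
(0,[],[]),
(0,[],[]),
(0,[],[]),
(0,[],[]),
(0,[],[]),
(4,[190,844,687,2062,2314,2316,2318,2320,2322,2324,2326,2328,2330,2332,2334],[736,2061,2059,2135,744]),
(0,[],[]),
(0,[],[]),
(3,[844,687,685,1980,2338,2340],[192,194,1826,1828,1830]),
(0,[],[]),
(0,[],[]),
(0,[],[]),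
(0,[],[]),
(0,[],[]),
(0,[],[]),
(0,[],[]),
(0,[],[]),
(5,[191,736,2061,2282,2344,2346,2348,2350,2352,2354,2356,2358],[192,194,1826]),
(0,[],[]),
(0,[],[]),
(0,[],[]),
(0,[],[]),
(0,[],[]),
(0,[],[]),
(0,[],[]),
(4,[844,688,166,1869,2030,2032,2025,2362,2364,2366,2368,2370,2372,2374],[192,863,1101,219,1758,1760]),
(0,[],[]),
(0,[],[]),
(0,[],[]),
(0,[],[]),
(0,[],[]),
(0,[],[]),
(0,[],[]),
(0,[],[]),
(5,[863,2262,2378,2380,2382,2384,2386,2388,2390,2392],[193,844,687,2062,2064]),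
(6,[193,844,688,165,163,140,8,142,138,140,8,142,137,185,210,275,199,278,1758,2286,2288],[863,2262,2378]),
(1,[2397],[]),
(1,[2399,2379],[]),
(0,[],[]),
(0,[],[]),
(0,[],[]),
(0,[],[]),
(0,[],[]),
(0,[],[]),
(0,[],[]),
(4,[196,278,1758,2286,2288,2400,2263,862,194,1826,2361,2402,2404,2406,2408,2410,2412,2414],[1826,1828]),
(6,[1826,2361,2402,2404,2406,2408],[195,193,191,189,187,163,139,137,135,133,201,199,197,1826,1828,2417,2415,2413]),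
(1,[2419],[]),
(1,[2421,2412],[]),
(1,[2421,2411],[]),
(1,[2408,2424],[]),
(1,[2427],[]),
(1,[2429,2422],[]),
(1,[2406,2430],[]),
(1,[2429,2409],[]),
(1,[2433],[]),
(1,[2437,2414],[]),
(0,[],[]),
(0,[],[]),
(0,[],[]),
(0,[],[]),
(0,[],[]),
(0,[],[]),
(0,[],[]),
(0,[],[]),
(0,[],[]),
(0,[],[]),
(0,[],[]),
(4,[1883,2000,2440,2442,2444,2446,2448,2450,2452,2454,2456,2458,2460],[203,187,164,689,687,685,683]),
(0,[],[]),
(0,[],[]),
(0,[],[]),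
(0,[],[]),
(0,[],[]),
(0,[],[]),
(4,[208,107,105,103,1309,1342,1344,1346,1348,2464,2466,2468,2470,2472,2474],[207,1396,2131,2003,2440]),
(6,[264,852,854,1105,221,1100,2262,2264,2266],[55,337,585,63,61,59,57,264,227,225,223,221,219,1758,1760]),
(1,[2478],[]),
(1,[2481,2268],[]),
(1,[1763,2482],[]),
(1,[2481,2267],[]),
(1,[2376,2486],[]),
(1,[2485],[]),
(1,[2491,2270],[]),
(1,[1765,2492],[]),
(1,[2488],[]),
(1,[2497,2375],[])]
theorem ok4 : data.stepsOK st4 1000 = true := by decide +kernel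
def st5 : List Step := [(1,[2305,2498],[]),
(1,[2497,2376],[]),
(1,[2495],[]),
(1,[2505,2272],[]),
(1,[1784,2506],[]),
(1,[2501],[]),
(1,[2511,2373],[]),
(1,[2307,2512],[]),
(1,[2509],[]),
(1,[2517,2274],[]),
(1,[2515],[]),
(1,[2521,2371],[]),
(2,[680,682,684,2062,2314,2316],[]),
(1,[2524],[]),
(1,[2527,2318],[]),
(1,[678,2528],[]),
(1,[2527,2317],[]),
(1,[2531],[]),
(1,[2535,2320],[]),
(2,[746,748,1898,1900],[2337,2335]),
(1,[2539],[]),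
(1,[2541,2333],[]),
(1,[1903,2542],[]),
(1,[2541,2334],[]),
(1,[2545],[]),
(1,[2549,2331],[]),
(2,[1838,1840,2238],[2281,2279]),
(2,[1904,1906,1908],[2550,2329,2327]),
(1,[2555],[]),
(1,[2557,2325],[]),
(1,[1911,2558],[]),
(1,[2561],[]),
(1,[2563,2323],[]),
(2,[2442,2444,2446],[2477,2475]),
(0,[],[]),
(0,[],[]),
(0,[],[]),
(0,[],[]),
(0,[],[]),
(0,[],[]),
(0,[],[]),
(0,[],[]),
(0,[],[]),
(0,[],[]),
(5,[1104,2568,2572,2574,2576,2578,2580,2582,2584,2586],[221,1100,2262,2264,2304]),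
(0,[],[]),
(0,[],[]),
(0,[],[]),
(0,[],[]),
(0,[],[]),
(0,[],[]),
(0,[],[]),
(0,[],[]),
(0,[],[]),
(0,[],[]),
(0,[],[]),
(0,[],[]),
(0,[],[]),
(0,[],[]),
(0,[],[]),
(0,[],[]),
(0,[],[]),
(0,[],[]),
(0,[],[]),
(4,[226,852,885,903,2600,2602,2604,2606,2608,2610,2612,2614,2616,2618,2620,2622,2624,2626],[864,914]),
(0,[],[]),
(0,[],[]),
(0,[],[]),
(4,[916,918,920,1087,1087,1087,921,1090,930,394,574,482,484,2630,2632,2634],[284,286,776,1429]),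
(0,[],[]),
(0,[],[]),
(0,[],[]),
(0,[],[]),
(0,[],[]),
(0,[],[]),
(5,[286,288,753,751,749,2638,2640,2642,2644,2646,2648],[285,916,2596,2598]),
(0,[],[]),
(0,[],[]),
(0,[],[]),
(0,[],[]),
(0,[],[]),
(0,[],[]),
(0,[],[]),
(0,[],[]),
(0,[],[]),
(0,[],[]),
(0,[],[]),
(4,[287,1959,1957,1955,2654,2656,2658,2660,2662,2664,2666,2668,2670,2672],[288,753,755,531,714,716]),
(0,[],[]),
(0,[],[]),
(0,[],[]),
(0,[],[]),
(4,[294,296,298,300,302,1708,1917,1900,2546,2678,2680,2682],[391,389,1127,1295,1132,1896,2137,1964]),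
(0,[],[]),
(2,[735,796,798],[716,2675]),
(2,[866,2590,2592],[914,2629,2627]),
(1,[2691],[]),
(1,[2693,2625],[]),
(1,[2595,2694],[]),
(1,[2693,2626],[]),
(1,[2697],[]),
(1,[2701,2623],[]),
(3,[918,920,1086,921,1090,1490,1492,1494],[2596,2598,2651]),
(2,[1966,1968],[2685,2683,2681]),
(0,[],[]),
(0,[],[]),
(0,[],[]),
(0,[],[]),
(0,[],[]),
(0,[],[]),
(0,[],[]),
(0,[],[]),
(5,[297,446,1018,2676,2708,2710,2712,2714,2716,2718,2720,2722],[298,300,1066]),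
(0,[],[]),
(0,[],[]),
(0,[],[]),
(0,[],[]),
(4,[604,74,324,326,957,1292,1153,2726,2728,2730,2732],[298,608,421,1722,1917,1899,749,2638,2640]),
(0,[],[]),
(0,[],[]),
(0,[],[]),
(0,[],[]),
(0,[],[]),
(0,[],[]),
(0,[],[]),
(4,[302,1708,1917,1900,2546,2336,745,2134,2058,2282,2284,2736,2738,2740,2742,2744,2746,2748],[1066,1068]),
(0,[],[]),
(0,[],[]),
(0,[],[]),
(0,[],[]),
(0,[],[]),
(0,[],[]),
(0,[],[]),
(0,[],[]),
(0,[],[]),
(0,[],[]),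
(0,[],[]),
(3,[1606,2754,2766,2768,2770,2772],[312,314,1440,1520,1522]),
(0,[],[]),
(0,[],[]),
(0,[],[]),
(0,[],[]),
(0,[],[]),
(0,[],[]),
(0,[],[]),
(0,[],[]),
(0,[],[]),
(0,[],[]),
(0,[],[]),
(0,[],[]),
(4,[479,118,1489,1505,2752,2776,2778,2780,2782,2784,2786,2788,2790,2792,2794,2796,2798],[1440,1520,1695]),
(0,[],[]),
(0,[],[]),
(0,[],[]),
(0,[],[]),
(3,[322,28,338,340,2802,2804,2806,2808],[504,1452,1539]),
(6,[24,49,112,114,116,118,1489,1505,2752,2776,2778,2780],[15,1,2,23,21,79,77,324,428,1065,1155,1153]),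
(1,[2812],[]),
(1,[2815,2782],[]),
(1,[2727,2816],[]),
(1,[2819],[]),
(1,[2821,2784],[]),
(6,[64,66,68,70,72,74,324,326,957,1292,1153,2726,2822,2786,2788,2790,2792,2794],[63,913,911,939,937,935]),
(1,[2824],[]),
(1,[2827,2796],[]),
(1,[671,2828],[]),
(1,[2831],[]),
(1,[2833,2798],[]),
(1,[673,2834],[]),
(1,[2837],[]),
(1,[2839,2800],[]),
(1,[675,2840],[]),
(1,[2843],[]),
(1,[2845,1694],[]),
(1,[677,2846],[]),
(1,[2849],[]),
(1,[2851,1522],[]),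
(1,[679,2852],[]),
(1,[2851,1521],[]),
(1,[2537,2856],[]),
(1,[2855],[]),
(1,[2861,1524],[]),
(1,[2533,2862],[]),
(1,[2861,2775],[]),
(1,[681,2866],[]),
(1,[2858],[]),
(1,[2871,2537],[]),
(1,[2871,2565],[]),
(1,[1443,2874],[]),
(1,[2864],[]),
(1,[2879,2315],[]),
(1,[2879,2533],[]),
(1,[2869],[]),
(1,[2885,2773],[]),
(1,[2462,2886],[]),
(1,[2877],[]),
(1,[2891,1911],[]),
(1,[1445,2892],[]),
(1,[2891,1912],[]),
(1,[2889],[]),
(1,[2899,2771],[]),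
(1,[2460,2900],[]),
(1,[2895],[]),
(1,[2905,1909],[]),
(1,[1447,2906],[]),
(1,[2903],[]),
(1,[2911,2769],[]),
(1,[2909],[]),
(1,[2915,1907],[]),
(6,[1587,1605],[125,123,121,119,478,1440,2872,678,2883,2880,2063,686,845,192,863,1101,219,1758,1760,1762,2570]),
(2,[1148,1150,2726,2728],[1944]),
(2,[1584,1605,2918,2571,1764,1785],[]),
(1,[2922],[]),
(1,[2925,1784],[]),
(1,[1756,2926],[]),
(1,[2925,2518],[]),
(1,[1585,2930],[]),
(1,[2929],[]),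
(1,[2935,1765],[]),
(1,[1754,2936],[]),
(1,[2933],[]),
(1,[2941,2276],[]),
(1,[1587,2942],[]),
(1,[2939],[]),
(1,[2947,1763],[]),
(1,[1752,2948],[]),
(1,[2945],[]),
(1,[2953,2553],[]),
(1,[124,2954],[]),
(1,[2953,2278],[]),
(1,[127,2958],[]),
(1,[2951],[]),
(1,[2963,2503],[]),
(1,[1750,2964],[]),
(1,[2957],[]),
(1,[2969,2240],[]),
(1,[122,2970],[]),
(1,[2961],[]),
(1,[2975,2280],[]),
(1,[129,2976],[]),
(1,[2967],[]),
(1,[2981,2304],[]),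
(1,[2981,2265],[]),
(1,[1748,2984],[]),
(1,[2973],[]),
(1,[2989,2242],[]),
(1,[819,2990],[]),
(1,[2979],[]),
(1,[2995,1837],[]),
(1,[131,2996],[])]
theorem ok5 : data.stepsOK st5 1250 = true := by decide +kernel
def st6 : List Step := [(1,[2987],[]),
(1,[3001,2263],[]),
(1,[1746,3002],[]),
(1,[3001,2401],[]),
(1,[2993],[]),
(1,[3009,2244],[]),
(1,[843,3010],[]),
(1,[2999],[]),
(1,[3015,1835],[]),
(1,[200,3016],[]),
(1,[3015,1930],[]),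
(1,[133,3020],[]),
(1,[3004],[]),
(1,[3025,1746],[]),
(1,[3013],[]),
(1,[3029,2246],[]),
(1,[312,3030],[]),
(1,[3019],[]),
(1,[3035,1738],[]),
(1,[198,3036],[]),
(1,[3035,1737],[]),
(1,[275,3040],[]),
(1,[3023],[]),
(1,[3045,1822],[]),
(1,[135,3046],[]),
(1,[3033],[]),
(1,[3051,2248],[]),
(1,[1607,3052],[]),
(1,[3039],[]),
(1,[3057,2233],[]),
(1,[196,3058],[]),
(1,[3042],[]),
(1,[3063,410],[]),
(1,[178,3064],[]),
(1,[3063,275],[]),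
(1,[3049],[]),
(1,[3071,1862],[]),
(1,[137,3072],[]),
(1,[3055],[]),
(1,[3077,2250],[]),
(1,[1609,3078],[]),
(1,[3061],[]),
(1,[3083,2231],[]),
(1,[1827,3084],[]),
(1,[3067],[]),
(1,[3089,1668],[]),
(1,[2204,3090],[]),
(1,[3089,412],[]),
(1,[176,3094],[]),
(1,[3075],[]),
(1,[3099,1864],[]),
(1,[139,3100],[]),
(1,[3081],[]),
(1,[3105,2252],[]),
(1,[1704,3106],[]),
(1,[3087],[]),
(1,[3111,2229],[]),
(1,[2360,3112],[]),
(1,[3092],[]),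
(1,[3117,2204],[]),
(1,[3097],[]),
(1,[3121,414],[]),
(1,[2150,3122],[]),
(1,[3103],[]),
(1,[3127,1866],[]),
(1,[163,3128],[]),
(1,[3109],[]),
(1,[3133,2254],[]),
(1,[304,3134],[]),
(1,[3114],[]),
(1,[3139,2359],[]),
(1,[2226,3140],[]),
(1,[3139,2360],[]),
(1,[3139,2402],[]),
(1,[3124],[]),
(1,[3149,2149],[]),
(1,[3149,2150],[]),
(1,[3131],[]),
(1,[3155,1868],[]),
(1,[165,3156],[]),
(1,[3155,2030],[]),
(1,[187,3160],[]),
(1,[3137],[]),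
(1,[3165,2261],[]),
(1,[302,3166],[]),
(1,[3143],[]),
(1,[3171,2357],[]),
(1,[3159],[]),
(1,[3175,168],[]),
(1,[688,3176],[]),
(1,[3163],[]),
(1,[3181,2032],[]),
(1,[189,3182],[]),
(1,[3169],[]),
(1,[3187,2218],[]),
(1,[1067,3188],[]),
(1,[3178],[]),
(1,[3193,687],[]),
(1,[171,3194],[]),
(1,[3193,845],[]),
(1,[2028,3198],[]),
(1,[3185],[]),
(1,[3203,2025],[]),
(1,[737,3204],[]),
(1,[3191],[]),
(1,[3209,2220],[]),
(1,[2724,3210],[]),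
(1,[3197],[]),
(1,[3215,685],[]),
(1,[173,3216],[]),
(1,[3215,2062],[]),
(1,[2074,3220],[]),
(1,[3200],[]),
(1,[3225,2076],[]),
(1,[193,3226],[]),
(1,[3207],[]),
(1,[3231,2023],[]),
(1,[2060,3232],[]),
(1,[3231,2362],[]),
(1,[739,3236],[]),
(1,[3212],[]),
(1,[3241,2724],[]),
(1,[3219],[]),
(1,[3245,1980],[]),
(1,[175,3246],[]),
(1,[3245,683],[]),
(1,[2128,3250],[]),
(1,[3222],[]),
(1,[3255,2073],[]),
(1,[2065,3256],[]),
(1,[3255,2074],[]),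
(1,[3229],[]),
(1,[3263,2078],[]),
(1,[862,3264],[]),
(1,[3234],[]),
(1,[3269,2282],[]),
(1,[3269,2059],[]),
(1,[2020,3272],[]),
(1,[3239],[]),
(1,[3277,2364],[]),
(1,[741,3278],[]),
(1,[3249],[]),
(1,[3283,2338],[]),
(1,[3152,3284],[]),
(1,[3252],[]),
(1,[3289,2152],[]),
(1,[2462,3290],[]),
(1,[3289,2128],[]),
(1,[3259],[]),
(1,[3297,2099],[]),
(1,[2394,3298],[]),
(1,[3267],[]),
(1,[3303,2080],[]),
(1,[3027,3304],[]),
(1,[3275],[]),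
(1,[3309,2135],[]),
(1,[3281],[]),
(1,[3313,2366],[]),
(1,[3287],[]),
(1,[3317,2340],[]),
(1,[3151,3318],[]),
(1,[3292],[]),
(1,[3323,2462],[]),
(1,[3323,2461],[]),
(1,[2155,3326],[]),
(1,[3300],[]),
(1,[3331,2394],[]),
(1,[3307],[]),
(1,[3335,2082],[]),
(1,[3007,3336],[]),
(1,[3321],[]),
(1,[3341,2342],[]),
(1,[2146,3342],[]),
(1,[3329],[]),
(1,[3347,2912],[]),
(1,[2157,3348],[]),
(1,[3347,2459],[]),
(1,[3338],[]),
(1,[3355,3007],[]),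
(1,[3344],[]),
(1,[3359,2146],[]),
(1,[3351],[]),
(1,[3363,2767],[]),
(2,[3360,2175,2234,2236],[1832]),
(2,[2224,3172],[2154,3352,2457]),
(2,[3364,2756,2758,2760],[2158]),
(2,[2222],[3242,1068,2751,2749]),
(0,[],[]),
(0,[],[]),
(0,[],[]),
(0,[],[]),
(0,[],[]),
(0,[],[]),
(0,[],[]),
(0,[],[]),
(0,[],[]),
(0,[],[]),
(0,[],[]),
(5,[557,663,661,3378,3380,3382,3384,3386,3388,3390,3392,3394],[340,2802,2804]),
(0,[],[]),
(0,[],[]),
(0,[],[]),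
(0,[],[]),
(0,[],[]),
(0,[],[]),
(0,[],[]),
(0,[],[]),
(0,[],[]),
(0,[],[]),
(0,[],[]),
(4,[339,30,33,527,572,554,663,3398,3400,3402,3404,3406,3408,3410,3412,3414,3416,3418],[340,342]),
(0,[],[]),
(2,[2802,3422],[342,3421,3419]),
(0,[],[]),
(0,[],[]),
(0,[],[]),
(0,[],[]),
(0,[],[]),
(0,[],[]),
(0,[],[]),
(0,[],[]),
(0,[],[]),
(0,[],[]),
(0,[],[]),
(0,[],[]),
(4,[2802,3422,3426,3428,3430,3432,3434,3436,3438,3440,3442,3444,3446,3448],[341,557,555,573,525,628]),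
(0,[],[]),
(0,[],[]),
(0,[],[]),
(0,[],[]),
(6,[79,292,294,296,298,300,1066,3243,2222,3372,2747],[19,50,153,151,261,58,379,720,722,1045,1733,1434,1731]),
(1,[3460],[]),
(1,[3463,2745],[]),
(1,[1386,3464],[]),
(1,[3467],[]),
(1,[3469,2743],[]),
(1,[698,3470],[]),
(1,[3473],[]),
(1,[3475,2741],[]),
(2,[612,614],[522,628,3451]),
(2,[1556,1558,1560,3374,3376],[]),
(0,[],[]),
(0,[],[]),
(0,[],[]),
(0,[],[]),
(0,[],[]),
(0,[],[]),
(0,[],[]),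
(0,[],[]),
(0,[],[])]
theorem ok6 : data.stepsOK st6 1500 = true := by decide +kernel
def st7 : List Step := [(0,[],[]),
(0,[],[]),
(0,[],[]),
(0,[],[]),
(0,[],[]),
(4,[393,282,284,1959,2132,1426,2637,3494,3496,3498,3500,3502,3504,3506,3508],[394,396,611,487,2630]),
(2,[2632,2634,3494,3496],[3511,3509]),
(1,[3513],[]),
(1,[3515,3508],[]),
(0,[],[]),
(0,[],[]),
(0,[],[]),
(0,[],[]),
(0,[],[]),
(0,[],[]),
(0,[],[]),
(3,[397,395,931,1490,3520,3522,3524,3526,3528,3530],[398]),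
(0,[],[]),
(0,[],[]),
(0,[],[]),
(2,[3533,3538],[400,627,625]),
(0,[],[]),
(0,[],[]),
(0,[],[]),
(0,[],[]),
(0,[],[]),
(0,[],[]),
(0,[],[]),
(0,[],[]),
(0,[],[]),
(0,[],[]),
(0,[],[]),
(0,[],[]),
(0,[],[]),
(0,[],[]),
(4,[3484,3486,3488,3490,3492,3550,3552,3554,3556,3558,3560,3562,3564,3566,3568],[403,627,625,3541,3542]),
(0,[],[]),
(0,[],[]),
(0,[],[]),
(0,[],[]),
(0,[],[]),
(4,[482,484,2630,2632,2634,3494,3574,3576,3578,3580],[481,113,48,26,28,338,557,663,661,659]),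
(0,[],[]),
(0,[],[]),
(0,[],[]),
(0,[],[]),
(0,[],[]),
(0,[],[]),
(0,[],[]),
(0,[],[]),
(4,[486,610,398,3533,3538,3540,623,3584,3586,3588,3590,3592,3594,3596,3598],[2630,3511,3517,3497,3574]),
(2,[658,660,3398,3400],[3583]),
(0,[],[]),
(0,[],[]),
(0,[],[]),
(0,[],[]),
(0,[],[]),
(0,[],[]),
(0,[],[]),
(0,[],[]),
(5,[493,3544,3546,3548,3604,3606,3608,3610,3612,3614,3616,3618],[494,496,1979]),
(0,[],[]),
(0,[],[]),
(0,[],[]),
(0,[],[]),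
(0,[],[]),
(0,[],[]),
(0,[],[]),
(0,[],[]),
(0,[],[]),
(0,[],[]),
(4,[496,498,1174,3482,3622,3624,3626,3628,3630,3632,3634,3636,3638,3640],[495,493,491,1477,3534,3536]),
(0,[],[]),
(0,[],[]),
(0,[],[]),
(0,[],[]),
(4,[1452,1454,3644,3646,3648,3650],[505,475,115,113,47,291,753,751,749,747,2337,2678,2707,1969]),
(0,[],[]),
(0,[],[]),
(0,[],[]),
(0,[],[]),
(0,[],[]),
(0,[],[]),
(0,[],[]),
(0,[],[]),
(0,[],[]),
(5,[817,815,813,3654,3656,3658,3660,3662,3664,3666,3668,3670],[508,1478,1480]),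
(0,[],[]),
(0,[],[]),
(0,[],[]),
(0,[],[]),
(0,[],[]),
(0,[],[]),
(0,[],[]),
(0,[],[]),
(0,[],[]),
(0,[],[]),
(0,[],[]),
(0,[],[]),
(0,[],[]),
(0,[],[]),
(4,[507,1452,1539,1537,3674,3676,3678,3680,3682,3684,3686,3688,3690,3692,3694,3696,3698,3700],[508,510]),
(0,[],[]),
(0,[],[]),
(0,[],[]),
(0,[],[]),
(0,[],[]),
(0,[],[]),
(3,[511,509,817,815,3704,3706,3708,3710,3712,3714],[512]),
(0,[],[]),
(0,[],[]),
(0,[],[]),
(0,[],[]),
(0,[],[]),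
(0,[],[]),
(0,[],[]),
(0,[],[]),
(0,[],[]),
(0,[],[]),
(0,[],[]),
(5,[3703,3718,3720,3722,3724,3726,3728,3730,3732,3734,3736,3738],[512,3717,3715]),
(0,[],[]),
(0,[],[]),
(0,[],[]),
(0,[],[]),
(0,[],[]),
(0,[],[]),
(0,[],[]),
(0,[],[]),
(3,[515,513,3703,3718,3746,3748,3750,3752,3754,3756],[516]),
(0,[],[]),
(0,[],[]),
(0,[],[]),
(0,[],[]),
(0,[],[]),
(0,[],[]),
(0,[],[]),
(0,[],[]),
(0,[],[]),
(0,[],[]),
(0,[],[]),
(0,[],[]),
(0,[],[]),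
(0,[],[]),
(4,[515,3717,3715,3741,3760,3762,3764,3766,3768,3770,3772,3774,3776,3778,3780,3782,3784,3786],[516,518]),
(0,[],[]),
(0,[],[]),
(0,[],[]),
(0,[],[]),
(0,[],[]),
(0,[],[]),
(0,[],[]),
(0,[],[]),
(2,[3673,3742,3744],[1482,1588]),
(0,[],[]),
(0,[],[]),
(0,[],[]),
(3,[523,521,3789,3798,3808,3810,3812],[524,572,553,551]),
(0,[],[]),
(0,[],[]),
(0,[],[]),
(0,[],[]),
(0,[],[]),
(0,[],[]),
(0,[],[]),
(0,[],[]),
(0,[],[]),
(5,[628,630,3816,3818,3820,3822,3824,3826,3828,3830,3832],[524,572,553,636]),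
(0,[],[]),
(0,[],[]),
(0,[],[]),
(0,[],[]),
(0,[],[]),
(0,[],[]),
(0,[],[]),
(0,[],[]),
(4,[572,554,663,3398,3400,3602,3581,3836,3838,3840,3842,3844,3846,3848,3850],[525,628,3451,3479,616]),
(0,[],[]),
(0,[],[]),
(0,[],[]),
(0,[],[]),
(3,[530,532,839,3572,3854,3856,3858,3860],[714,735,733]),
(0,[],[]),
(0,[],[]),
(0,[],[]),
(0,[],[]),
(0,[],[]),
(0,[],[]),
(4,[530,754,751,1898,1900,2546,2678,2680,2682,3864,3866,3868,3870,3872,3874],[714,716,2675,2689,800]),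
(0,[],[]),
(0,[],[]),
(0,[],[]),
(0,[],[]),
(0,[],[]),
(3,[754,751,749,2638,3878,3880,3882,3884,3886],[532,534]),
(0,[],[]),
(0,[],[]),
(0,[],[]),
(0,[],[]),
(0,[],[]),
(5,[531,714,716,719,2675,2673,2671,3890,3892,3894,3896,3898],[532,534,3889]),
(0,[],[]),
(0,[],[]),
(0,[],[]),
(0,[],[]),
(0,[],[]),
(0,[],[]),
(0,[],[]),
(0,[],[]),
(0,[],[]),
(0,[],[]),
(0,[],[]),
(0,[],[]),
(0,[],[]),
(0,[],[]),
(4,[536,756,758,760,762,3904,3906,3908,3910,3912,3914,3916,3918,3920,3922,3924,3926,3928],[3889,3887]),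
(0,[],[]),
(0,[],[]),
(0,[],[]),
(0,[],[]),
(0,[],[]),
(0,[],[]),
(0,[],[]),
(0,[],[]),
(0,[],[]),
(0,[],[]),
(0,[],[]),
(0,[],[]),
(0,[],[]),
(0,[],[]),
(0,[],[]),
(0,[],[]),
(0,[],[]),
(4,[756,846,835,3936,3938,3940,3942,3944,3946,3948,3950,3952,3954,3956,3958,3960,3962,3964],[538,3902]),
(2,[540,542,544],[3902,3967,3965]),
(1,[3969],[]),
(1,[3971,3963],[]),
(1,[547,3972],[]),
(1,[3971,3964],[]),
(1,[3975],[]),
(1,[3979,3961],[]),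
(1,[848,3980],[]),
(1,[3983],[]),
(1,[3985,3959],[]),
(1,[640,3986],[]),
(1,[3989],[]),
(1,[3991,3957],[]),
(1,[1507,3992],[]),
(1,[3995],[]),
(1,[3997,3955],[])]
theorem ok7 : data.stepsOK st7 1750 = true := by decide +kernel
def st8 : List Step := [(0,[],[]),
(0,[],[]),
(0,[],[]),
(0,[],[]),
(0,[],[]),
(0,[],[]),
(0,[],[]),
(0,[],[]),
(3,[3976,4002,4004,4006,4008,4010,4012,4014],[546,548,3815]),
(0,[],[]),
(0,[],[]),
(0,[],[]),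
(0,[],[]),
(0,[],[]),
(0,[],[]),
(0,[],[]),
(0,[],[]),
(0,[],[]),
(0,[],[]),
(0,[],[]),
(0,[],[]),
(0,[],[]),
(0,[],[]),
(4,[550,636,3835,3833,4000,4020,4022,4024,4026,4028,4030,4032,4034,4036,4038,4040,4042,4044],[3815,4017]),
(6,[552,554,556,339,29,27,25,16,18,20,88,154,156,445,1194,1196,1198,1200],[551,3815,4017,4047,4045,4043]),
(1,[4049],[]),
(1,[4051,4042],[]),
(0,[],[]),
(0,[],[]),
(0,[],[]),
(0,[],[]),
(0,[],[]),
(0,[],[]),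
(0,[],[]),
(4,[554,556,340,2802,3422,3424,3417,4054,4056,4058,4060,4062,4064,4066],[553,551,549,849,642,4018]),
(6,[265,56,260,150,280,282,284,1959,2132,1426,2637,3494,3574,3576,3578,3836],[227,864,914,2629,2699,2594,2702]),
(2,[618,620,3584,3586],[3853,3851]),
(1,[4073],[]),
(1,[4075,3850],[]),
(2,[828,830,832,3936,3938,3940],[]),
(1,[4078],[]),
(1,[4081,3942],[]),
(1,[826,4082],[]),
(1,[4085],[]),
(1,[4087,3944],[]),
(1,[1547,4088],[]),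
(1,[4091],[]),
(1,[4093,3946],[]),
(1,[1735,4094],[]),
(1,[4097],[]),
(1,[4099,3948],[]),
(1,[1514,4100],[]),
(1,[4103],[]),
(1,[4105,3950],[]),
(0,[],[]),
(0,[],[]),
(0,[],[]),
(0,[],[]),
(0,[],[]),
(0,[],[]),
(0,[],[]),
(0,[],[]),
(0,[],[]),
(0,[],[]),
(0,[],[]),
(4,[3478,3450,630,632,4108,4110,4112,4114,4116,4118,4120,4122,4124,4126,4128],[616,3853,4077,3587,3800]),
(0,[],[]),
(0,[],[]),
(0,[],[]),
(0,[],[]),
(0,[],[]),
(0,[],[]),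
(0,[],[]),
(0,[],[]),
(0,[],[]),
(5,[3541,3542,3571,4134,4136,4138,4140,4142,4144,4146,4148],[623,3584,3800,3802]),
(0,[],[]),
(0,[],[]),
(0,[],[]),
(0,[],[]),
(0,[],[]),
(0,[],[]),
(0,[],[]),
(0,[],[]),
(0,[],[]),
(0,[],[]),
(0,[],[]),
(0,[],[]),
(4,[629,523,521,519,3759,3790,3792,3794,3796,4158,4160,4162,4164,4166,4168,4170,4172,4174],[630,3816]),
(2,[632,4108,4110],[3816,4177,4175]),
(1,[4179],[]),
(1,[4181,4173],[]),
(1,[4113,4182],[]),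
(1,[4181,4174],[]),
(1,[4185],[]),
(1,[4189,4171],[]),
(0,[],[]),
(0,[],[]),
(0,[],[]),
(0,[],[]),
(0,[],[]),
(0,[],[]),
(0,[],[]),
(0,[],[]),
(0,[],[]),
(0,[],[]),
(0,[],[]),
(4,[4108,4110,4112,4114,4116,4192,4194,4196,4198,4200,4202,4204,4206,4208,4210,4212],[635,633,3816,4177]),
(0,[],[]),
(0,[],[]),
(0,[],[]),
(0,[],[]),
(0,[],[]),
(0,[],[]),
(0,[],[]),
(0,[],[]),
(0,[],[]),
(0,[],[]),
(0,[],[]),
(0,[],[]),
(0,[],[]),
(0,[],[]),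
(0,[],[]),
(0,[],[]),
(4,[848,548,3815,3813,4222,4224,4226,4228,4230,4232,4234,4236,4238,4240,4242,4244,4246],[642,4018,4069]),
(2,[644,646,4216],[4018,4069,4249]),
(1,[4251],[]),
(1,[4253,4248],[]),
(0,[],[]),
(0,[],[]),
(0,[],[]),
(0,[],[]),
(0,[],[]),
(0,[],[]),
(0,[],[]),
(0,[],[]),
(0,[],[]),
(0,[],[]),
(0,[],[]),
(0,[],[]),
(0,[],[]),
(0,[],[]),
(0,[],[]),
(0,[],[]),
(0,[],[]),
(4,[4216,4254,4067,4260,4262,4264,4266,4268,4270,4272,4274,4276,4278,4280,4282,4284,4286,4288],[648,4256]),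
(2,[650,652,654],[4256,4291,4289]),
(1,[4293],[]),
(1,[4295,4288],[]),
(0,[],[]),
(0,[],[]),
(0,[],[]),
(0,[],[]),
(0,[],[]),
(0,[],[]),
(0,[],[]),
(0,[],[]),
(0,[],[]),
(5,[4256,4258,4298,4300,4302,4304,4306,4308,4310,4312,4314],[649,4216,4218,4220]),
(2,[3802,3804,4132],[4131,4129]),
(2,[4222,4224],[3812,4017,4047,4045]),
(1,[4320],[]),
(1,[4323,4225],[]),
(6,[3926,3928,3930,3886,3888,536,538,540,542,544,546,548,3815,3813,4222,4325,4053,1202,1204,1206,1208,1210,1212,1214],[]),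
(1,[4327],[]),
(1,[4329,3926],[]),
(2,[4114,4116,4192],[4190,4169]),
(0,[],[]),
(0,[],[]),
(0,[],[]),
(0,[],[]),
(4,[850,710,1395,1393,4334,4336,4338,4340],[672,1915,2897,1443,1441,315,843,820,1519,1517,1735,1548]),
(6,[700,702,704,706,708,710,1395,1393,4334,4336,4338,4340],[699,3476,2739,2737,2285,3271,2021,2019,2017,2015,2013,2011]),
(1,[4344],[]),
(1,[4347,4341],[]),
(1,[2008,4348],[]),
(1,[4347,4342],[]),
(1,[4351],[]),
(1,[4355,4339],[]),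
(0,[],[]),
(0,[],[]),
(0,[],[]),
(0,[],[]),
(0,[],[]),
(0,[],[]),
(0,[],[]),
(0,[],[]),
(0,[],[]),
(0,[],[]),
(0,[],[]),
(0,[],[]),
(0,[],[]),
(0,[],[]),
(4,[712,666,904,1413,4358,4360,4362,4364,4366,4368,4370,4372,4374,4376,4378,4380,4382,4384],[1395,1946]),
(6,[35,11,142,138,162,186,202,1883,2000,2002,2004,2006,4356],[36,85,86,247,147,664,713,1395,1946,4387,4385]),
(1,[4389],[]),
(1,[4391,4383],[]),
(1,[4356,4392],[]),
(1,[4395],[]),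
(1,[4397,4381],[]),
(1,[2006,4398],[]),
(1,[4401],[]),
(1,[4403,4379],[]),
(1,[2302,4404],[]),
(1,[4407],[]),
(1,[4409,4377],[]),
(6,[85,37,111,144,664,666,904,1413,4358,4360,4362,4364],[86,42,44,291,753,751,749,2638,2640,2735,2733,2731]),
(1,[4412],[]),
(1,[4415,4366],[]),
(1,[2921,4416],[]),
(1,[4419],[]),
(1,[4421,4368],[]),
(1,[1562,4422],[]),
(1,[4425],[]),
(1,[4427,4370],[]),
(1,[3375,4428],[]),
(1,[4431],[]),
(1,[4433,4372],[]),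
(1,[3377,4434],[]),
(1,[4437],[]),
(1,[4439,4374],[]),
(1,[3481,4440],[]),
(1,[4443],[]),
(1,[4445,4411],[]),
(1,[1554,4446],[]),
(1,[4449],[]),
(1,[4451,2301],[]),
(1,[1552,4452],[]),
(1,[4451,2302],[]),
(1,[4455],[]),
(1,[4459,2299],[]),
(6,[642,644,646,4216,4218,4220,4317,4315],[641,1506,3998,3953,4107,1514,1735,1548,4353,2009,2007,2005,2003,2440,2477,2475]),
(1,[4462],[]),
(1,[4465,4314],[]),
(1,[2566,4466],[]),
(1,[4469],[]),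
(1,[4471,4316],[]),
(1,[2449,4472],[]),
(1,[4475],[]),
(1,[4477,4221],[]),
(0,[],[]),
(0,[],[]),
(0,[],[]),
(0,[],[]),
(0,[],[]),
(0,[],[]),
(0,[],[]),
(0,[],[]),
(0,[],[]),
(0,[],[])]
theorem ok8 : data.stepsOK st8 2000 = true := by decide +kernel
def st9 : List Step := [(0,[],[]),
(0,[],[]),
(0,[],[]),
(0,[],[]),
(0,[],[]),
(0,[],[]),
(0,[],[]),
(0,[],[]),
(0,[],[]),
(4,[742,3311,2019,4488,4490,4492,4494,4496,4498,4500,4502,4504,4506,4508,4510,4512,4514,4516],[3314,4482]),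
(0,[],[]),
(0,[],[]),
(0,[],[]),
(0,[],[]),
(0,[],[]),
(0,[],[]),
(5,[743,3314,4482,4484,4520,4522,4524,4526,4528,4530],[744,746,2638,3878,3880]),
(6,[744,746,748,1898,1916,1723,419,1718,1622,3118,178,3068,199,278,218,1100,3026,1748,2982,2589],[743,3314,4482,4519]),
(1,[4535],[]),
(1,[4537,4517],[]),
(1,[2589,4538],[]),
(1,[4541],[]),
(1,[4543,4515],[]),
(1,[2982,4544],[]),
(1,[4547],[]),
(1,[4549,4513],[]),
(1,[1748,4550],[]),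
(1,[4553],[]),
(1,[4555,4511],[]),
(1,[3356,4556],[]),
(1,[4559],[]),
(1,[4561,4509],[]),
(1,[2085,4562],[]),
(1,[4565],[]),
(1,[4567,4507],[]),
(1,[2087,4568],[]),
(1,[4571],[]),
(1,[4573,4505],[]),
(0,[],[]),
(0,[],[]),
(0,[],[]),
(0,[],[]),
(0,[],[]),
(0,[],[]),
(0,[],[]),
(5,[2337,2678,2707,1970,4576,4578,4580,4582,4584,4586,4588],[745,3311,2019,4488]),
(6,[131,1646,1636,1541,123,818,820,822,824,1546,1548,1550,4460],[201,199,197,195,863,3026,3357,2084,2086,4574,4503]),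
(1,[4593],[]),
(1,[4595,4501],[]),
(1,[4460,4596],[]),
(1,[4599],[]),
(1,[4601,4499],[]),
(1,[1550,4602],[]),
(1,[4605],[]),
(1,[4607,4497],[]),
(1,[4352,4608],[]),
(1,[4611],[]),
(1,[4613,4495],[]),
(1,[2011,4614],[]),
(1,[4617],[]),
(1,[4619,4493],[]),
(2,[802,804,4480],[3877,3875]),
(2,[1972,1974,1976,3621],[4576]),
(6,[],[2653,1424,2133,1958,286,288,753,751,749,747,2337,2678,2707,1970,4576,4625,3620,1978,497,495,493,491,1477,3534]),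
(1,[4627],[]),
(1,[4629,3535],[]),
(1,[4629,3536],[]),
(1,[2652,4632],[]),
(1,[4635],[]),
(1,[4637,3643],[]),
(1,[1422,4638],[]),
(1,[4641],[]),
(1,[4643,3641],[]),
(6,[3632,3634,3636,3638,4645,1422,1424,1426,1428,777,288,290,46,112,114,474,504,1452,1539,1537,3674,3676,3678,3680],[]),
(1,[4646],[]),
(1,[4649,3681],[]),
(1,[3630,4650],[]),
(1,[4653],[]),
(1,[4655,3679],[]),
(0,[],[]),
(0,[],[]),
(0,[],[]),
(0,[],[]),
(0,[],[]),
(0,[],[]),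
(0,[],[]),
(0,[],[]),
(0,[],[]),
(0,[],[]),
(0,[],[]),
(0,[],[]),
(0,[],[]),
(0,[],[]),
(0,[],[]),
(0,[],[]),
(0,[],[]),
(0,[],[]),
(4,[4480,4622,3873,4664,4666,4668,4670,4672,4674,4676,4678,4680,4682,4684,4686,4688,4690,4692],[806,4658]),
(2,[808,810,812,3704],[4658,4695]),
(1,[4697],[]),
(1,[4699,4694],[]),
(0,[],[]),
(0,[],[]),
(0,[],[]),
(0,[],[]),
(0,[],[]),
(0,[],[]),
(0,[],[]),
(0,[],[]),
(0,[],[]),
(0,[],[]),
(4,[3704,4700,4660,4662,4702,4704,4706,4708,4710,4712,4714,4716,4718,4720],[814,1173,1728,1455,1539,2811]),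
(6,[1174,3482,3622,3624,3626,3628,4656],[499,1979,1977,1975,1973,1971,1969,3653,3651,3649,3647,3645,1455,1539,2811,4723]),
(0,[],[]),
(6,[736,738,740,742,744,746,2638,3878],[189,202,204,1396,2131,2004,4457,1554,3481,3377,3375,1562,2921,2730,4726]),
(0,[],[]),
(0,[],[]),
(0,[],[]),
(0,[],[]),
(0,[],[]),
(0,[],[]),
(4,[2686,4486,4730,4732,4734,4736,4738,4740],[1129,421,1722,1709,304,1704,1609,2754,3365,2158,3371,2762]),
(0,[],[]),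
(0,[],[]),
(0,[],[]),
(0,[],[]),
(0,[],[]),
(0,[],[]),
(0,[],[]),
(0,[],[]),
(0,[],[]),
(0,[],[]),
(0,[],[]),
(0,[],[]),
(0,[],[]),
(0,[],[]),
(0,[],[]),
(0,[],[]),
(0,[],[]),
(0,[],[]),
(4,[1486,1505,1503,1501,4758,4760,4762,4764,4766,4768,4770,4772,4774,4776,4778],[1485,1588,3807,3745,4750]),
(0,[],[]),
(0,[],[]),
(0,[],[]),
(0,[],[]),
(0,[],[]),
(0,[],[]),
(0,[],[]),
(0,[],[]),
(0,[],[]),
(4,[1556,1558,4744,4782,4784,4786,4788,4790,4792,4794,4796,4798],[1555,1553,1551,4353,2010,4620,4491,4591]),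
(2,[3397,3452,3454],[2806,4746]),
(2,[4752,4754,4756],[4781,4779]),
(0,[],[]),
(0,[],[]),
(0,[],[]),
(0,[],[]),
(3,[1560,1562,2921,2730,2732,4806,4808,4810,4812],[4744,4782]),
(0,[],[]),
(4,[1570,1572,1485,1483,3673,3742,4750,4752,4754,4816],[1937,1149,1944,2921,2730,4726,4729,3880,3882,3932]),
(0,[],[]),
(0,[],[]),
(0,[],[]),
(0,[],[]),
(0,[],[]),
(0,[],[]),
(0,[],[]),
(0,[],[]),
(0,[],[]),
(0,[],[]),
(0,[],[]),
(4,[1829,3145,2227,3172,3368,2456,4820,4824,4826,4828,4830,4832,4834,4836,4838,4840],[1830,1832,3367,2237]),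
(4,[3146,2404,2406,2435,2435,2435,2407,2438,2416,1830,3360,2175,2234,4843],[2227,2225,2154,3352,4820,4822]),
(2,[4824,4826],[4822,4845,4841,4839]),
(1,[4847],[]),
(1,[4849,4838],[]),
(0,[],[]),
(0,[],[]),
(4,[1904,2917,1448,1450,793,3518,4152,4154,4156,4852,4854],[1903,1901,1899,749,2638,2640,2735,4806,4808]),
(0,[],[]),
(0,[],[]),
(0,[],[]),
(0,[],[]),
(0,[],[]),
(0,[],[]),
(0,[],[]),
(0,[],[]),
(0,[],[]),
(0,[],[]),
(0,[],[]),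
(4,[3333,2176,4866,4868,4870,4872,4874,4876,4878],[2065,3260,172,3295,3325,2154,3352,4820,4822,4845,4841]),
(0,[],[]),
(0,[],[]),
(0,[],[]),
(0,[],[]),
(0,[],[]),
(3,[2159,2157,3352,4820,4824,4882,4884,4886,4888,4890],[2160]),
(0,[],[]),
(0,[],[]),
(0,[],[]),
(0,[],[]),
(0,[],[]),
(0,[],[]),
(0,[],[]),
(0,[],[]),
(0,[],[]),
(5,[3371,2762,4743,4894,4896,4898,4900,4902,4904,4906,4908,4910],[2160,4893,4891]),
(0,[],[]),
(0,[],[]),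
(0,[],[]),
(0,[],[]),
(0,[],[]),
(3,[2163,2161,3371,2762,2764,4914,4916,4918,4920,4922],[2164]),
(0,[],[]),
(0,[],[]),
(0,[],[]),
(0,[],[]),
(0,[],[]),
(0,[],[]),
(0,[],[]),
(0,[],[]),
(0,[],[]),
(0,[],[]),
(0,[],[]),
(0,[],[]),
(0,[],[]),
(0,[],[]),
(4,[2163,4893,4891,4913,4926,4928,4930,4932,4934,4936,4938,4940,4942,4944,4946,4948,4950,4952],[2164,2166]),
(0,[],[]),
(2,[4925,4956],[2166,4955,4953]),
(0,[],[]),
(0,[],[]),
(0,[],[]),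
(3,[2171,2169,4955,4960,4962,4964],[2172,2234,4843,4841,4881]),
(6,[657,4296,4290,4257,649,4216,4218,4479,2450,2452,2454,2456,4820,4824,4826,4850,4881,4967,4965],[3583,3581,3579,3577,3601]),
(1,[4968],[]),
(1,[4971,4963],[]),
(1,[3598,4972],[]),
(1,[4975],[]),
(1,[4977,4961],[]),
(1,[3596,4978],[]),
(1,[4981],[]),
(1,[4983,4953],[]),
(1,[3594,4984],[]),
(1,[4987],[]),
(1,[4989,4959],[]),
(1,[3592,4990],[]),
(1,[4993],[]),
(1,[4995,4957],[]),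
(1,[3590,4996],[])]
theorem ok9 : data.stepsOK st9 2250 = true := by decide +kernel
def st10 : List Step := [(1,[4999],[]),
(1,[5001,4923],[]),
(1,[3588,5002],[]),
(1,[5005],[]),
(1,[5007,4921],[]),
(1,[3586,5008],[]),
(1,[5011],[]),
(1,[5013,4919],[]),
(1,[3801,5014],[]),
(1,[5017],[]),
(1,[5019,4917],[]),
(1,[3803,5020],[]),
(1,[5023],[]),
(1,[5025,4915],[]),
(1,[4150,5026],[]),
(1,[5028],[]),
(1,[5031,4150],[]),
(6,[1488,120,818,842,313,1606,2754,2756,2758,2760,2762,2764,5032,3804,4132,4318,4127],[1487,1485,1588,3807,3745,4750,4781]),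
(1,[5035],[]),
(1,[5037,4779],[]),
(1,[4124,5038],[]),
(1,[5041],[]),
(1,[5043,4805],[]),
(1,[4122,5044],[]),
(1,[5047],[]),
(1,[5049,4757],[]),
(1,[4120,5050],[]),
(1,[5053],[]),
(1,[5055,4816],[]),
(1,[4118,5056],[]),
(1,[5055,4755],[]),
(1,[5059],[]),
(1,[5063,4818],[]),
(1,[4193,5064],[]),
(1,[5066],[]),
(1,[5069,4194],[]),
(1,[3935,5070],[]),
(1,[5069,4193],[]),
(1,[5069,4332],[]),
(1,[3932,5076],[]),
(1,[5073],[]),
(1,[5081,4196],[]),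
(1,[5079],[]),
(1,[5085,4168],[]),
(1,[3882,5086],[]),
(1,[5089],[]),
(1,[5091,4191],[]),
(1,[4532,5092],[]),
(1,[5094],[]),
(1,[5097,4531],[]),
(1,[4112,5098],[]),
(1,[5097,4532],[]),
(1,[5101],[]),
(1,[5105,4529],[]),
(1,[4187,5106],[]),
(1,[5109],[]),
(1,[5111,4527],[]),
(1,[4214,5112],[]),
(1,[5115],[]),
(1,[5117,4525],[]),
(6,[2312,740,742,3311,2019,4488,4591,4589,4858,4860,4862,4864],[2311,2309,2522,2369,4482,4484,4520,4522,5119,4213,4211,4209]),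
(1,[5120],[]),
(1,[5123,4865],[]),
(1,[4206,5124],[]),
(1,[5127],[]),
(1,[5129,4863],[]),
(6,[2804,3397,3452,3454,3456,3458],[2803,341,557,555,573,525,628,630,3816,4177,4187,4112,5102,3881,3879,2640,2735,4806]),
(1,[5133],[]),
(1,[5135,4808],[]),
(1,[3458,5136],[]),
(1,[5139],[]),
(1,[5141,4810],[]),
(1,[3456,5142],[]),
(1,[5141,4857],[]),
(1,[5145],[]),
(1,[5149,4812],[]),
(1,[4803,5150],[]),
(1,[5153],[]),
(1,[5155,4814],[]),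
(1,[4749,5156],[]),
(1,[5159],[]),
(1,[5161,4784],[]),
(2,[4858,4860],[4588,4801,4799,4797]),
(1,[5164],[]),
(1,[5167,5131],[]),
(1,[4794,5168],[]),
(1,[5170],[]),
(1,[5173,4793],[]),
(1,[4204,5174],[]),
(1,[5177],[]),
(1,[5179,4791],[]),
(1,[4202,5180],[]),
(1,[5183],[]),
(1,[5185,4789],[]),
(1,[4200,5186],[]),
(1,[5189],[]),
(1,[5191,4787],[]),
(1,[4198,5192],[]),
(1,[5195],[]),
(1,[5197,5163],[]),
(1,[5082,5198],[]),
(1,[5201],[]),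
(1,[5203,4749],[]),
(1,[3934,5204],[]),
(1,[5207],[]),
(1,[5209,4803],[]),
(1,[5075,5210],[]),
(1,[5209,4747],[]),
(1,[3932,5214],[]),
(1,[5212],[]),
(1,[5219,4118],[]),
(1,[3457,5220],[]),
(1,[5216],[]),
(1,[5225,3884],[]),
(1,[2809,5226],[]),
(1,[5225,3883],[]),
(1,[2806,5230],[]),
(1,[5223],[]),
(1,[5235,5060],[]),
(1,[5147,5236],[]),
(1,[5229],[]),
(1,[5241,3931],[]),
(1,[4722,5242],[]),
(1,[5241,3886],[]),
(1,[2811,5246],[]),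
(1,[5233],[]),
(1,[5251,3881],[]),
(1,[2804,5252],[]),
(1,[5238],[]),
(1,[5257,4855],[]),
(1,[4752,5258],[]),
(1,[5244],[]),
(1,[5263,4725],[]),
(1,[3928,5264],[]),
(1,[5249],[]),
(1,[5269,3888],[]),
(1,[1539,5270],[]),
(1,[5269,3901],[]),
(1,[1536,5274],[]),
(1,[5255],[]),
(1,[5279,3879],[]),
(1,[2802,5280],[]),
(1,[5261],[]),
(1,[5285,4853],[]),
(1,[4750,5286],[]),
(1,[5266],[]),
(1,[5291,4331],[]),
(1,[4656,5292],[]),
(1,[5272],[]),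
(1,[5297,1453],[]),
(1,[534,5298],[]),
(1,[5277],[]),
(1,[5303,3899],[]),
(1,[1534,5304],[]),
(1,[5283],[]),
(1,[5309,2639],[]),
(1,[340,5310],[]),
(1,[5309,2640],[]),
(1,[343,5314],[]),
(1,[5289],[]),
(1,[5319,4157],[]),
(1,[3742,5320],[]),
(1,[5294],[]),
(1,[5325,3630],[]),
(1,[1217,5326],[]),
(1,[5300],[]),
(1,[5331,533],[]),
(1,[504,5332],[]),
(1,[5307],[]),
(1,[5337,3897],[]),
(1,[1532,5338],[]),
(1,[5313],[]),
(1,[5343,747],[]),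
(1,[556,5344],[]),
(1,[5343,748],[]),
(1,[338,5348],[]),
(1,[5317],[]),
(1,[5353,2642],[]),
(1,[345,5354],[]),
(1,[5323],[]),
(1,[5359,4155],[]),
(1,[3673,5360],[]),
(1,[5329],[]),
(1,[5365,3632],[]),
(1,[1219,5366],[]),
(1,[5335],[]),
(1,[5371,531],[]),
(1,[474,5372],[]),
(1,[5341],[]),
(1,[5377,3895],[]),
(1,[1530,5378],[]),
(1,[5347],[]),
(1,[5383,745],[]),
(1,[662,5384],[]),
(1,[5351],[]),
(1,[5389,1898],[]),
(1,[31,5390],[]),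
(1,[5357],[]),
(1,[5395,2644],[]),
(1,[347,5396],[]),
(1,[5363],[]),
(1,[5401,4153],[]),
(1,[1480,5402],[]),
(1,[5369],[]),
(1,[5407,3634],[]),
(1,[1221,5408],[]),
(1,[5375],[]),
(1,[5413,714],[]),
(1,[117,5414],[]),
(1,[5413,529],[]),
(1,[114,5418],[]),
(1,[5381],[]),
(1,[5423,3893],[]),
(1,[1528,5424],[]),
(1,[5387],[]),
(1,[5429,743],[]),
(1,[660,5430],[]),
(1,[5393],[]),
(1,[5435,1916],[]),
(1,[32,5436],[]),
(1,[5399],[]),
(1,[5441,2646],[]),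
(1,[349,5442],[]),
(1,[5405],[]),
(1,[5447,3519],[]),
(1,[1478,5448],[]),
(1,[5411],[]),
(1,[5453,3636],[]),
(1,[1223,5454],[]),
(1,[5417],[]),
(1,[5459,716],[]),
(1,[479,5460],[]),
(1,[5459,735],[]),
(1,[119,5464],[]),
(1,[5420],[]),
(1,[5469,480],[]),
(1,[42,5470],[]),
(1,[5427],[]),
(1,[5475,3891],[]),
(1,[1526,5476],[]),
(1,[5433],[]),
(1,[5481,741],[]),
(1,[658,5482],[]),
(1,[5439],[]),
(1,[5487,1709],[]),
(1,[30,5488],[]),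
(1,[5445],[]),
(1,[5493,2648],[]),
(1,[351,5494],[]),
(1,[5451],[])]
theorem ok10 : data.stepsOK st10 2500 = true := by decide +kernel
def st11 : List Step := [(1,[5499,792],[]),
(1,[511,5500],[]),
(1,[5457],[]),
(1,[5505,3638],[]),
(1,[94,5506],[]),
(1,[5463],[]),
(1,[5511,2675],[]),
(1,[314,5512],[]),
(1,[5467],[]),
(1,[5517,733],[]),
(1,[1488,5518],[]),
(1,[5473],[]),
(1,[5523,575],[]),
(1,[246,5524],[]),
(1,[5523,482],[]),
(1,[86,5528],[]),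
(1,[5479],[]),
(1,[5533,2670],[]),
(1,[2883,5534],[]),
(1,[5485],[]),
(1,[5539,739],[]),
(1,[3582,5540],[]),
(1,[5491],[]),
(1,[5545,304],[]),
(1,[28,5546],[]),
(1,[5497],[]),
(1,[5551,2705],[]),
(1,[571,5552],[]),
(1,[5503],[]),
(1,[5557,794],[]),
(1,[513,5558],[]),
(1,[5509],[]),
(1,[5563,4645],[]),
(1,[92,5564],[]),
(1,[5515],[]),
(1,[5569,2673],[]),
(1,[312,5570],[]),
(1,[5520],[]),
(1,[5575,1488],[]),
(1,[5575,1487],[]),
(1,[3862,5578],[]),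
(1,[5527],[]),
(1,[5583,395],[]),
(1,[149,5584],[]),
(1,[5583,396],[]),
(1,[146,5588],[]),
(1,[5531],[]),
(1,[5537],[]),
(1,[5542],[]),
(1,[5597,3581],[]),
(1,[736,5598],[]),
(1,[5549],[]),
(1,[5603,1704],[]),
(1,[322,5604],[]),
(1,[5555],[]),
(1,[5609,1495],[]),
(1,[872,5610],[]),
(1,[5560,5592],[]),
(1,[5615,513],[]),
(1,[84,5616],[]),
(1,[5567],[]),
(1,[5621,1422],[]),
(1,[90,5622],[]),
(1,[5595,5573],[]),
(1,[5627,680],[]),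
(1,[1607,5628],[]),
(1,[5580],[]),
(1,[5633,3862],[]),
(1,[5587],[]),
(1,[5637,931],[]),
(1,[260,5638],[]),
(1,[5637,393],[]),
(1,[151,5642],[]),
(1,[5591],[]),
(1,[5647,611],[]),
(1,[144,5648],[]),
(1,[5601],[]),
(1,[5653,3836],[]),
(1,[191,5654],[]),
(1,[5607],[]),
(1,[5659,1609],[]),
(1,[474,5660],[]),
(1,[5613],[]),
(1,[5665,1493],[]),
(1,[870,5666],[]),
(1,[5619],[]),
(1,[5671,511],[]),
(1,[36,5672],[]),
(1,[5625],[]),
(1,[5677,2652],[]),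
(1,[155,5678],[]),
(1,[5630],[]),
(1,[5641],[]),
(1,[5685,1490],[]),
(1,[59,5686],[]),
(1,[5645],[]),
(1,[5691,281],[]),
(1,[5651],[]),
(1,[5695,488],[]),
(1,[108,5696],[]),
(1,[5657],[]),
(1,[5701,4070],[]),
(1,[193,5702],[]),
(1,[5683,5663],[]),
(1,[5707,3325],[]),
(1,[117,5708],[]),
(1,[5669],[]),
(1,[5675],[]),
(1,[5715,1478],[]),
(1,[110,5716],[]),
(1,[5681],[]),
(1,[5721,4630],[]),
(1,[157,5722],[]),
(1,[5713,5689],[]),
(1,[5727,869],[]),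
(1,[58,5728],[]),
(1,[5699],[]),
(1,[5733,1477],[]),
(1,[208,5734],[]),
(1,[5705],[]),
(1,[5739,2703],[]),
(1,[195,5740],[]),
(1,[5711],[]),
(1,[5745,2224],[]),
(1,[119,5746],[]),
(1,[5719],[]),
(1,[5751,1480],[]),
(1,[108,5752],[]),
(1,[5725],[]),
(1,[5731],[]),
(1,[5759,2590],[]),
(1,[261,5760],[]),
(1,[5736,5756],[]),
(1,[5765,208],[]),
(1,[444,5766],[]),
(1,[5743],[]),
(1,[5771,2595],[]),
(1,[1827,5772],[]),
(1,[5749],[]),
(1,[5777,2226],[]),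
(1,[5576,5778],[]),
(1,[5755],[]),
(1,[5783,1482],[]),
(1,[5763],[]),
(1,[5787,2592],[]),
(1,[151,5788],[]),
(1,[5768],[]),
(1,[5793,444],[]),
(1,[5785,5794],[]),
(1,[5775],[]),
(1,[5781],[]),
(1,[5801,3144],[]),
(1,[5634,5802],[]),
(1,[5799,5791],[]),
(1,[5796],[]),
(1,[5809,1484],[]),
(1,[156,5810],[]),
(1,[5804,5806],[]),
(1,[5812,5814],[]),
(1,[5817,155],[])]
theorem ok11 : data.stepsOK st11 2750 = true := by decide +kernel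
end

end MemC
end HN
end H23
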